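import Cfsg.Agent.Lib.Spor.Ly.LeviIndex.Part0

/-!
The order of ⟨a, b⟩: the assembled checks.
-/

set_option autoImplicit false

namespace CfsgLib.Spor.Ly.LeviIndex

open CfsgLib.Spor.TC

theorem steps_ok : cert.SStepsOK 0 1328 :=
  steps0

theorem rows_ok : cert.SRowsOK 1328 480 0 480 :=
  rows0

theorem row_zero : cert.rowNode 0 = 0 := by decide +kernel

end CfsgLib.Spor.Ly.LeviIndex
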